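import Mathlib.FieldTheory.KrullTopology
import Mathlib.FieldTheory.Normal.Basic
import Mathlib.Topology.LocallyConstant.Basic

/-! The automorphism group of a normal algebraic extension is compact (no separability assumed). -/

set_option autoImplicit false

universe u v

open scoped Topology

namespace Groth.Agent.H18Gal.KrullCompact

variable (K : Type u) (L : Type v) [Field K] [Field L] [Algebra K L] [Normal K L]

/-- The roots of the minimal polynomial of an element. -/
abbrev Conj (x : L) : Type v := ↥((minpoly K x).rootSet L)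

variable {K L} in
theorem mem_rootSet (σ : L ≃ₐ[K] L) (x : L) : σ x ∈ (minpoly K x).rootSet L := by
  rw [Polynomial.mem_rootSet]
  refine ⟨minpoly.ne_zero (Algebra.IsIntegral.isIntegral x), ?_⟩
  rw [Polynomial.aeval_algHom_apply, minpoly.aeval, map_zero]

/-- Evaluation at every element. -/
def eval (σ : L ≃ₐ[K] L) : (x : L) → Conj K L x := fun x => ⟨σ x, mem_rootSet σ x⟩

theorem compactSpace : CompactSpace (L ≃ₐ[K] L) := by
  letI : ∀ x : L, TopologicalSpace (Conj K L x) := fun _ => ⊥
  haveI : ∀ x : L, DiscreteTopology (Conj K L x) := fun _ => ⟨rfl⟩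
  haveI : ∀ x : L, CompactSpace (Conj K L x) := fun x => Finite.compactSpace
  have hcont : Continuous (eval K L) := by
    refine continuous_pi fun x => ?_
    refine IsLocallyConstant.continuous ((IsLocallyConstant.iff_exists_open _).mpr fun σ => ?_)
    refine ⟨(fun τ : L ≃ₐ[K] L => σ⁻¹ * τ) ⁻¹'
      (MulAction.stabilizer (L ≃ₐ[K] L) x : Set (L ≃ₐ[K] L)),
      (stabilizer_isOpen_of_isIntegral (K := K) x).preimage (continuous_const.mul continuous_id),
      ?_, fun τ hτ => ?_⟩
    · show σ⁻¹ * σ ∈ MulAction.stabilizer (L ≃ₐ[K] L) x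
      rw [inv_mul_cancel]
      exact one_mem _
    · refine Subtype.ext ?_
      have h1 : (σ⁻¹ * τ) x = x := hτ
      show τ x = σ x
      conv_rhs => rw [← h1]
      rw [AlgEquiv.mul_apply]
      exact (σ.apply_symm_apply (τ x)).symm
  have hind : Topology.IsInducing (eval K L) := by
    refine Topology.isInducing_iff_nhds.mpr fun σ => le_antisymm ?_ ?_
    · exact Filter.map_le_iff_le_comap.mp hcont.continuousAt
    · intro U hU
      have hU' : (fun τ => σ * τ) ⁻¹' U ∈ 𝓝 (1 : L ≃ₐ[K] L) :=
        (continuous_const.mul continuous_id).continuousAt.preimage_mem_nhds (by simpa using hU)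
      obtain ⟨E, hfd, hE⟩ := (krullTopology_mem_nhds_one_iff K L _).mp hU'
      let b := Module.finBasis K E
      refine Filter.mem_comap.mpr ⟨(Set.range fun i => ((b i : E) : L)).pi
        (fun x => {eval K L σ x}), ?_, fun τ hτ => ?_⟩
      · exact set_pi_mem_nhds (Set.finite_range _) fun x _ => (isOpen_discrete _).mem_nhds rfl
      · have key : σ⁻¹ * τ ∈ (fun ρ => σ * ρ) ⁻¹' U := by
          apply hE
          rw [SetLike.mem_coe, IntermediateField.mem_fixingSubgroup_iff]
          intro y hy
          have hlin : τ.toLinearMap ∘ₗ E.val.toLinearMap = σ.toLinearMap ∘ₗ E.val.toLinearMap :=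
            b.ext fun i => congrArg Subtype.val (hτ _ ⟨i, rfl⟩)
          have h2 : τ y = σ y := LinearMap.congr_fun hlin ⟨y, hy⟩
          show σ.symm (τ y) = y
          rw [h2, σ.symm_apply_apply]
        simpa [mul_inv_cancel_left] using key
  have hclosed : IsClosed (Set.range (eval K L)) := by
    have hrange : Set.range (eval K L) =
        {f | (∀ x y : L, (f (x + y)).1 = (f x).1 + (f y).1) ∧
          (∀ x y : L, (f (x * y)).1 = (f x).1 * (f y).1) ∧
          (∀ c : K, (f (algebraMap K L c)).1 = algebraMap K L c)} := by
      ext f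
      constructor
      · rintro ⟨σ, rfl⟩
        exact ⟨fun x y => map_add σ x y, fun x y => map_mul σ x y, fun c => σ.commutes c⟩
      · rintro ⟨ha, hm, hc⟩
        have key : ∀ (c : K) (a : L), algebraMap K L c = a → (f a).1 = a := by
          rintro c a rfl
          exact hc c
        have h0 : (f 0).1 = 0 := key 0 0 (map_zero _)
        have h1 : (f 1).1 = 1 := key 1 1 (map_one _)
        let φ : L →ₐ[K] L :=
          { toFun := fun x => (f x).1, map_one' := h1, map_mul' := hm, map_zero' := h0,
            map_add' := ha, commutes' := hc }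
        exact ⟨AlgEquiv.ofBijective φ (AlgHom.normal_bijective K L L φ),
          funext fun x => Subtype.ext rfl⟩
    have hc : ∀ x : L, Continuous fun f : ((z : L) → Conj K L z) => f x := fun x => continuous_apply x
    have hv : ∀ x : L, ∀ (P : Conj K L x → Prop), IsClosed {f : (z : L) → Conj K L z | P (f x)} :=
      fun x P => (isClosed_discrete {a | P a}).preimage (hc x)
    rw [hrange]
    simp only [Set.setOf_and, Set.setOf_forall]
    refine (isClosed_iInter fun x => isClosed_iInter fun y => ?_).inter
      ((isClosed_iInter fun x => isClosed_iInter fun y => ?_).inter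
      (isClosed_iInter fun c => hv _ fun a => a.1 = algebraMap K L c))
    · exact (isClosed_discrete {q : Conj K L (x + y) × Conj K L x × Conj K L y |
        q.1.1 = q.2.1.1 + q.2.2.1}).preimage ((hc _).prodMk ((hc _).prodMk (hc _)))
    · exact (isClosed_discrete {q : Conj K L (x * y) × Conj K L x × Conj K L y |
        q.1.1 = q.2.1.1 * q.2.2.1}).preimage ((hc _).prodMk ((hc _).prodMk (hc _)))
  refine ⟨(hind.isCompact_iff).mpr ?_⟩
  rw [Set.image_univ]
  exact hclosed.isCompact

end Groth.Agent.H18Gal.KrullCompact
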