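import Mathlib.FieldTheory.IsSepClosed
import Mathlib.FieldTheory.IsAlgClosed.AlgebraicClosure
import Mathlib.FieldTheory.Perfect
import Mathlib.RingTheory.Henselian
import Mathlib.RingTheory.IntegralClosure.IntegrallyClosed
import Mathlib.RingTheory.Ideal.GoingUp
import Mathlib.RingTheory.LocalRing.ResidueField.Basic
import Mathlib.RingTheory.Localization.Integral
import Mathlib.Tactic

/-! # Normal domains with separably closed fraction field -/

set_option autoImplicit false

universe u v w

open Polynomial IsLocalRing

namespace H18Gal.NormalSepClosed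

variable {A : Type u} [CommRing A] [IsDomain A] [IsIntegrallyClosed A] (L : Type v) [Field L]
  [Algebra A L] [IsFractionRing A L] {K : Type w} [Field K] [Algebra L K] [Algebra A K]
  [IsScalarTower A L K]

theorem mem_range_of_isIntegral {α : K} (hα : IsIntegral A α) {x : L}
    (hx : algebraMap L K x = α) : ∃ a : A, algebraMap A K a = α := by
  rw [← hx, isIntegral_algebraMap_iff (algebraMap L K).injective] at hα
  obtain ⟨a, ha⟩ := IsIntegrallyClosed.isIntegral_iff.mp hα
  exact ⟨a, by rw [IsScalarTower.algebraMap_apply A L K, ha, hx]⟩

/-- A simple root of a monic polynomial over `A` in an extension of a separably closed fraction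
field lies in `A`. -/
theorem mem_range_of_simple_root [IsSepClosed L] {f : A[X]} (hf : f.Monic) {α : K}
    (h0 : aeval α f = 0) (h1 : aeval α (derivative f) ≠ 0) : ∃ a : A, algebraMap A K a = α := by
  have hα : IsIntegral A α := ⟨f, hf, h0⟩
  have hαL : IsIntegral L α := hα.tower_top
  obtain ⟨q, hq⟩ := minpoly.dvd L α (p := f.map (algebraMap A L)) (by rwa [aeval_map_algebraMap])
  have hne : derivative (minpoly L α) ≠ 0 := fun h => by
    refine h1 ?_
    rw [← aeval_map_algebraMap L, ← derivative_map, hq, derivative_mul, h, zero_mul, zero_add,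
      map_mul, minpoly.aeval, zero_mul]
  have hsep : (minpoly L α).Separable :=
    (separable_iff_derivative_ne_zero (minpoly.irreducible hαL)).mpr hne
  obtain ⟨x, hx⟩ := minpoly.degree_eq_one_iff.mp
    (IsSepClosed.degree_eq_one_of_irreducible L (minpoly.irreducible hαL) hsep)
  exact mem_range_of_isIntegral L hα hx

theorem mem_range_of_root [IsAlgClosed L] {f : A[X]} (hf : f.Monic) {α : K}
    (h0 : aeval α f = 0) : ∃ a : A, algebraMap A K a = α := by
  have hα : IsIntegral A α := ⟨f, hf, h0⟩
  have hαL : IsIntegral L α := hα.tower_top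
  obtain ⟨x, hx⟩ := minpoly.degree_eq_one_iff.mp
    (IsAlgClosed.degree_eq_one_of_irreducible L (minpoly.irreducible hαL))
  exact mem_range_of_isIntegral L hα hx

variable [IsLocalRing A]

/-- The prime of the integral closure over the maximal ideal. -/
theorem exists_prime_over :
    ∃ M : Ideal (integralClosure A (AlgebraicClosure L)), M.IsPrime ∧
      M.comap (algebraMap A (integralClosure A (AlgebraicClosure L))) = maximalIdeal A := by
  have hinj : Function.Injective (algebraMap A (integralClosure A (AlgebraicClosure L))) := by
    intro x y h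
    have h' : algebraMap A (AlgebraicClosure L) x = algebraMap A (AlgebraicClosure L) y :=
      congrArg Subtype.val h
    rw [IsScalarTower.algebraMap_apply A L, IsScalarTower.algebraMap_apply A L] at h'
    exact IsFractionRing.injective A L ((algebraMap L (AlgebraicClosure L)).injective h')
  haveI : FaithfulSMul A (integralClosure A (AlgebraicClosure L)) :=
    (faithfulSMul_iff_algebraMap_injective _ _).mpr hinj
  obtain ⟨M, hM, hM'⟩ := Ideal.exists_maximal_ideal_liesOver_of_isIntegral
    (S := integralClosure A (AlgebraicClosure L)) (maximalIdeal A)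
  exact ⟨M, hM.isPrime, hM'.over.symm⟩

theorem henselianLocalRing [IsSepClosed L] : HenselianLocalRing A := by
  refine ⟨fun f hf a₀ h₁ h₂ => ?_⟩
  let C := AlgebraicClosure L
  let B := integralClosure A C
  obtain ⟨M, hM, hMm⟩ := exists_prime_over (A := A) L
  have hroots : ∀ α ∈ (f.map (algebraMap A C)).roots, IsIntegral A α := fun α hα =>
    ⟨f, hf, by rw [mem_roots (hf.map _).ne_zero, IsRoot.def, eval_map] at hα; exact hα⟩
  let S : Multiset B := (f.map (algebraMap A C)).roots.pmap (fun α h => (⟨α, h⟩ : B)) hroots
  have hS : algebraMap A B (f.eval a₀) = (S.map fun α => algebraMap A B a₀ - α).prod := by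
    refine Subtype.ext ?_
    show algebraMap A C (f.eval a₀) = B.val _
    rw [map_multiset_prod, Multiset.map_map]
    show _ = (S.map fun α : B => algebraMap A C a₀ - (α : C)).prod
    rw [Multiset.map_pmap]
    simp only [Multiset.pmap_eq_map]
    rw [← eval₂_at_apply, ← eval_map]
    conv_lhs => rw [(IsAlgClosed.splits (f.map (algebraMap A C))).eq_prod_roots_of_monic (hf.map _)]
    rw [eval_multiset_prod, Multiset.map_map]
    simp
  have hmem : algebraMap A B (f.eval a₀) ∈ M := by
    rw [← hMm] at h₁
    exact h₁
  rw [hS] at hmem
  obtain ⟨d, hd, hdM⟩ := (hM.multiset_prod_mem_iff_exists_mem _).mp hmem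
  obtain ⟨α, hα, rfl⟩ := Multiset.mem_map.mp hd
  obtain ⟨x, hx, rfl⟩ := Multiset.mem_pmap.mp hα
  have h0 : aeval x f = 0 := by
    rw [mem_roots (hf.map _).ne_zero, IsRoot.def, eval_map] at hx
    exact hx
  have h1 : aeval x (derivative f) ≠ 0 := by
    intro hzero
    have hdiff : algebraMap A B ((derivative f).eval a₀) -
        aeval (⟨x, hroots x (by assumption)⟩ : B) (derivative f) ∈ M := by
      have e : aeval (algebraMap A B a₀) (derivative f) = algebraMap A B ((derivative f).eval a₀) :=
        aeval_algebraMap_apply_eq_algebraMap_eval _ _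
      rw [← e, aeval_def, aeval_def, eval₂_eq_eval_map, eval₂_eq_eval_map]
      exact Ideal.mem_of_dvd _ (sub_dvd_eval_sub _ _ _) hdM
    have hz : aeval (⟨x, hroots x (by assumption)⟩ : B) (derivative f) = 0 := by
      refine Subtype.ext ?_
      have := aeval_algHom_apply B.val (⟨x, hroots x (by assumption)⟩ : B) (derivative f)
      exact this.symm.trans hzero
    rw [hz, sub_zero] at hdiff
    exact hM.ne_top (Ideal.eq_top_of_isUnit_mem _ hdiff (h₂.map _))
  obtain ⟨a, ha⟩ := mem_range_of_simple_root L hf h0 h1
  refine ⟨a, ?_, ?_⟩
  · have h : algebraMap A C (f.eval a) = 0 := by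
      rw [← eval₂_at_apply, ha]
      exact h0
    rw [IsRoot.def]
    have hinj : Function.Injective (algebraMap A C) := by
      rw [IsScalarTower.algebraMap_eq A L C]
      exact (algebraMap L C).injective.comp (IsFractionRing.injective A L)
    exact hinj (h.trans (map_zero _).symm)
  · rw [← hMm, Ideal.mem_comap, map_sub, ← neg_mem_iff, neg_sub]
    convert hdM using 2
    exact Subtype.ext ha

theorem isSepClosed_residueField [IsSepClosed L] : IsSepClosed (ResidueField A) := by
  refine IsSepClosed.of_exists_root _ fun g hg hgirr hgsep => ?_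
  let C := AlgebraicClosure L
  let B := integralClosure A C
  obtain ⟨M, hM, hMm⟩ := exists_prime_over (A := A) L
  obtain ⟨f, hfg, hfdeg, hf⟩ := lifts_and_natDegree_eq_and_monic
    ((mem_lifts g).mpr (map_surjective (residue A) residue_surjective g)) hg
  have hdeg : (f.map (algebraMap A C)).degree ≠ 0 := by
    rw [hf.degree_map, degree_eq_natDegree hf.ne_zero, hfdeg]
    exact fun h => hgirr.natDegree_pos.ne' (by exact_mod_cast h)
  obtain ⟨x, hx⟩ := IsAlgClosed.exists_root _ hdeg
  rw [IsRoot.def, eval_map] at hx
  have hxi : IsIntegral A x := ⟨f, hf, hx⟩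
  obtain ⟨a', b', hab⟩ := hgsep
  obtain ⟨a'', rfl⟩ := map_surjective (residue A) residue_surjective a'
  obtain ⟨b'', rfl⟩ := map_surjective (residue A) residue_surjective b'
  have h1 : aeval x (derivative f) ≠ 0 := by
    intro hzero
    let r := a'' * f + b'' * derivative f - 1
    have hr : r.map (residue A) = 0 := by
      rw [Polynomial.map_sub, Polynomial.map_add, Polynomial.map_mul, Polynomial.map_mul, hfg,
        ← derivative_map, hfg, Polynomial.map_one, hab, sub_self]
    have hmem : aeval (⟨x, hxi⟩ : B) r ∈ M := by
      rw [aeval_eq_sum_range]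
      refine Submodule.sum_mem _ fun i _ => ?_
      rw [Algebra.smul_def]
      refine M.mul_mem_right _ ?_
      rw [← Ideal.mem_comap, hMm, ← residue_eq_zero_iff, ← coeff_map, hr, coeff_zero]
    have hr1 : aeval (⟨x, hxi⟩ : B) r = -1 := by
      refine Subtype.ext ((aeval_algHom_apply B.val (⟨x, hxi⟩ : B) r).symm.trans ?_)
      show aeval x r = _
      rw [map_sub, map_add, map_mul, map_mul, map_one, hzero,
        show aeval x f = 0 from hx, mul_zero, mul_zero, zero_add, zero_sub]
      rfl
    rw [hr1, neg_mem_iff] at hmem
    exact hM.ne_top ((Ideal.eq_top_iff_one _).mpr hmem)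
  obtain ⟨a, ha⟩ := mem_range_of_simple_root L hf hx h1
  refine ⟨residue A a, ?_⟩
  rw [← hfg, eval_map, eval₂_at_apply]
  have h : algebraMap A C (f.eval a) = 0 := by
    rw [← eval₂_at_apply, ha]
    exact hx
  have hinj : Function.Injective (algebraMap A C) := by
    rw [IsScalarTower.algebraMap_eq A L C]
    exact (algebraMap L C).injective.comp (IsFractionRing.injective A L)
  rw [hinj (h.trans (map_zero _).symm), map_zero]

theorem isAlgClosed_residueField [IsSepClosed L] (hA : maximalIdeal A ≠ ⊥) :
    IsAlgClosed (ResidueField A) := by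
  haveI := isSepClosed_residueField (A := A) L
  obtain ⟨p, hp⟩ := CharP.exists (ResidueField A)
  rcases CharP.char_is_prime_or_zero (ResidueField A) p with hprime | rfl
  swap
  · haveI : CharZero (ResidueField A) := CharP.charP_to_charZero _
    infer_instance
  haveI : Fact p.Prime := ⟨hprime⟩
  haveI : ExpChar (ResidueField A) p := ExpChar.prime hprime
  haveI : PerfectRing (ResidueField A) p := by
    refine PerfectRing.ofSurjective _ p fun c => ?_
    obtain ⟨c, rfl⟩ := residue_surjective c
    obtain ⟨π, hπ, hπ0⟩ := Submodule.exists_mem_ne_zero_of_ne_bot hA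
    let f : A[X] := X ^ p + C π * X - C c
    have hq : (C π * X - C c : A[X]).degree < (p : WithBot ℕ) := by
      refine (degree_sub_le _ _).trans_lt (max_lt ?_ ?_)
      · exact (degree_C_mul_X_le π).trans_lt (by exact_mod_cast hprime.one_lt)
      · exact degree_C_le.trans_lt (by exact_mod_cast hprime.pos)
    have hf : f.Monic := by
      show (X ^ p + C π * X - C c).Monic
      rw [add_sub_assoc]
      exact monic_X_pow_add hq
    let C' := AlgebraicClosure L
    have hdeg : (f.map (algebraMap A C')).degree ≠ 0 := by
      rw [hf.degree_map]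
      show (X ^ p + C π * X - C c).degree ≠ 0
      rw [add_sub_assoc, degree_add_eq_left_of_degree_lt (by rwa [degree_X_pow]), degree_X_pow]
      exact_mod_cast hprime.ne_zero
    obtain ⟨x, hx⟩ := IsAlgClosed.exists_root _ hdeg
    rw [IsRoot.def, eval_map] at hx
    have hex : ∃ a : A, algebraMap A C' a = x := by
      obtain ⟨q, hq'⟩ := CharP.exists L
      rcases CharP.char_is_prime_or_zero L q with hqprime | rfl
      · haveI := hq'
        have hqA : (q : A) = 0 := IsFractionRing.injective A L (by
          rw [map_natCast, map_zero, CharP.cast_eq_zero])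
        have hqp : (p : A) = 0 := by
          have hq0 : (q : ResidueField A) = 0 := by
            rw [← map_natCast (residue A), hqA, map_zero]
          have hdvd : p ∣ q := (CharP.cast_eq_zero_iff (ResidueField A) p q).mp hq0
          rw [(Nat.prime_dvd_prime_iff_eq hprime hqprime).mp hdvd]
          exact hqA
        refine mem_range_of_simple_root L hf hx ?_
        have hder : derivative f = C π := by
          simp [f, derivative_pow, hqp]
        rw [hder, aeval_C, IsScalarTower.algebraMap_apply A L C']
        simpa using hπ0
      · haveI : CharZero L := CharP.charP_to_charZero _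
        haveI : IsAlgClosed L := inferInstance
        exact mem_range_of_root L hf hx
    obtain ⟨a, ha⟩ := hex
    refine ⟨residue A a, ?_⟩
    have hinj : Function.Injective (algebraMap A C') := by
      rw [IsScalarTower.algebraMap_eq A L C']
      exact (algebraMap L C').injective.comp (IsFractionRing.injective A L)
    have h0 : f.eval a = 0 := hinj (by
      rw [← eval₂_at_apply, ha, map_zero]
      exact hx)
    have h2 := congrArg (residue A) h0
    simp only [f, eval_sub, eval_add, eval_pow, eval_X, eval_mul, eval_C, map_sub, map_add,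
      map_pow, map_mul, map_zero, (residue_eq_zero_iff π).mpr hπ, zero_mul, add_zero,
      sub_eq_zero] at h2
    exact h2
  haveI : PerfectField (ResidueField A) := PerfectRing.toPerfectField _ p
  infer_instance

end H18Gal.NormalSepClosed
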