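import Mathlib.Topology.Algebra.Category.ProfiniteGrp.Completion
import Mathlib.CategoryTheory.Galois.Topology
import Mathlib.CategoryTheory.Galois.Examples
import Mathlib.CategoryTheory.Action.Concrete

/-! # Automorphisms of forgetful functors of categories of finite `G`-sets -/

set_option autoImplicit false
set_option backward.isDefEq.respectTransparency false

universe u u₁ u₂

open CategoryTheory
open scoped CategoryTheory.PreGaloisCategory

namespace H18Gal.AutForget

section Dense

variable {C : Type u₁} [Category.{u₂} C] {F : C ⥤ FintypeCat.{u}}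

/-- A map into `Aut F` has dense range as soon as it approximates every automorphism on every
finite set of objects. -/
theorem denseRange_of_forall_finset {α : Type*} (f : α → Aut F)
    (h : ∀ (t : Aut F) (J : Finset C), ∃ a, ∀ X ∈ J, ∀ x, (f a).hom.app X x = t.hom.app X x) :
    DenseRange f := by
  intro t
  rw [mem_closure_iff]
  intro U hU htU
  obtain ⟨V, hV, rfl⟩ := isOpen_induced_iff.mp hU
  obtain ⟨J, W, hW, hsub⟩ := isOpen_pi_iff.mp hV _ htU
  obtain ⟨a, ha⟩ := h t J
  refine ⟨f a, hsub fun X hX => ?_, Set.mem_range_self a⟩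
  have e : PreGaloisCategory.autEmbedding F (f a) X = PreGaloisCategory.autEmbedding F t X := by
    ext x
    exact ha X hX x
  rw [e]
  exact (hW X hX).2

end Dense

section Rep

variable {G : Type u} [Group G]

/-- The kernel of the action on a finite `G`-set. -/
def kerSubgroup (X : Action FintypeCat.{u} G) : Subgroup G := X.ρ.toHomUnits.ker

instance (X : Action FintypeCat.{u} G) : (kerSubgroup X).Normal :=
  MonoidHom.normal_ker _

instance (X : Action FintypeCat.{u} G) : (kerSubgroup X).FiniteIndex := by
  haveI : Finite (End X.V) := Finite.of_injective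
    (fun f : End X.V => (fun x => f.hom x : X.V → X.V)) fun f g e =>
      InducedCategory.hom_ext (ConcreteCategory.hom_ext _ _ fun x => congrFun e x)
  haveI : Finite (End X.V)ˣ := Finite.of_injective _ Units.val_injective
  haveI : Finite (G ⧸ (X.ρ.toHomUnits).ker) :=
    Finite.of_equiv _ (QuotientGroup.quotientKerEquivRange X.ρ.toHomUnits).toEquiv.symm
  show (X.ρ.toHomUnits).ker.FiniteIndex
  exact Subgroup.finiteIndex_of_finite_quotient

/-- The kernel of the action, as a finite index normal subgroup. -/
def kerFI (X : Action FintypeCat.{u} G) : FiniteIndexNormalSubgroup G :=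
  FiniteIndexNormalSubgroup.ofSubgroup (kerSubgroup X)

theorem rho_eq_of_mk_eq (X : Action FintypeCat.{u} G) {N : Subgroup G} [N.Normal]
    (hN : N ≤ kerSubgroup X) {g h : G} (e : (g : G ⧸ N) = (h : G ⧸ N)) : X.ρ g = X.ρ h := by
  have h1 : X.ρ.toHomUnits (g⁻¹ * h) = 1 := hN (QuotientGroup.eq.mp e)
  rw [map_mul, map_inv, inv_mul_eq_one] at h1
  exact congrArg Units.val h1

/-- The finite `G`-set `G / N`. -/
noncomputable def quotObj (N : Subgroup G) [Finite (G ⧸ N)] : Action FintypeCat.{u} G :=
  letI : Fintype (G ⧸ N) := Fintype.ofFinite _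
  letI : MulAction G (FintypeCat.of (G ⧸ N)) := inferInstanceAs (MulAction G (G ⧸ N))
  Action.FintypeCat.ofMulAction G (FintypeCat.of (G ⧸ N))

theorem quotObj_rho (N : Subgroup G) [Finite (G ⧸ N)] (g k : G) :
    ((quotObj N).ρ g).hom ((k : G ⧸ N)) = ((g * k : G) : G ⧸ N) := rfl

/-- The orbit map `G / N ⟶ X` of a point. -/
noncomputable def orbitMap (N : Subgroup G) [N.Normal] [Finite (G ⧸ N)]
    (X : Action FintypeCat.{u} G) (hN : N ≤ kerSubgroup X) (x : X.V) : quotObj N ⟶ X where
  hom := FintypeCat.homMk (Quotient.lift (fun k : G => (X.ρ k).hom x) fun a b hab => by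
    have := rho_eq_of_mk_eq X hN (Quotient.sound hab : (a : G ⧸ N) = b)
    show (X.ρ a).hom x = (X.ρ b).hom x
    rw [this])
  comm g := by
    ext (k : G ⧸ N)
    induction k using QuotientGroup.induction_on with
    | H k =>
      show (X.ρ (g * k)).hom x = (X.ρ g).hom ((X.ρ k).hom x)
      rw [map_mul]
      rfl

theorem orbitMap_mk (N : Subgroup G) [N.Normal] [Finite (G ⧸ N)]
    (X : Action FintypeCat.{u} G) (hN : N ≤ kerSubgroup X) (x : X.V) (k : G) :
    (orbitMap N X hN x).hom.hom ((k : G ⧸ N)) = (X.ρ k).hom x := rfl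

end Rep

end H18Gal.AutForget

namespace H18Gal.AutForget

section Completion

open ProfiniteGrp

variable (G : Type u) [Group G]

local notation "Ĝ" => ProfiniteCompletion.completion (GrpCat.of G)

variable {G}

/-- The quotient action through a kernel. -/
noncomputable def quotAct (X : Action FintypeCat.{u} G) : G ⧸ kerSubgroup X →* (End X.V)ˣ :=
  QuotientGroup.lift _ X.ρ.toHomUnits le_rfl

/-- The coordinate at a finite index normal subgroup. -/
def coord (N : FiniteIndexNormalSubgroup G) : Ĝ →* G ⧸ N.toSubgroup where
  toFun s := s.val N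
  map_one' := rfl
  map_mul' _ _ := rfl

theorem coord_mono {N M : FiniteIndexNormalSubgroup G} (h : N ≤ M) (s : Ĝ) {g : G}
    (e : coord N s = (g : G ⧸ N.toSubgroup)) : coord M s = (g : G ⧸ M.toSubgroup) := by
  have := s.property h.hom
  exact this.symm.trans (congrArg (QuotientGroup.map _ _ (MonoidHom.id G) (fun _ hx => h hx)) e)

theorem continuous_coord_comp (N : FiniteIndexNormalSubgroup G) {α : Type*} [TopologicalSpace α]
    (f : G ⧸ N.toSubgroup → α) : Continuous fun s : Ĝ => f (coord N s) := by
  have h1 : Continuous fun s : Ĝ => s.val N :=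
    (continuous_apply N).comp continuous_subtype_val
  haveI : DiscreteTopology ((ProfiniteCompletion.diagram (GrpCat.of G)).obj N) := ⟨rfl⟩
  exact (continuous_of_discreteTopology
    (α := ((ProfiniteCompletion.diagram (GrpCat.of G)).obj N)) (f := f)).comp h1

/-- The action of the completion on a finite `G`-set, as units. -/
noncomputable def complAct (X : Action FintypeCat.{u} G) : Ĝ →* (End X.V)ˣ :=
  (quotAct X).comp (coord (kerFI X))

theorem complAct_of_rep (X : Action FintypeCat.{u} G) (s : Ĝ) {N : FiniteIndexNormalSubgroup G}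
    (hN : N.toSubgroup ≤ kerSubgroup X) {g : G} (e : coord N s = (g : G ⧸ N.toSubgroup)) :
    ((complAct X s : (End X.V)ˣ) : End X.V) = X.ρ g :=
  congrArg (fun q : G ⧸ kerSubgroup X => ((quotAct X q : (End X.V)ˣ) : End X.V))
    (coord_mono (M := kerFI X) hN s e)

theorem complAct_natural {X Y : Action FintypeCat.{u} G} (f : X ⟶ Y) (s : Ĝ) :
    (Action.forget FintypeCat.{u} G).map f ≫ (complAct Y s : (End Y.V)ˣ).val =
      (complAct X s : (End X.V)ˣ).val ≫ (Action.forget FintypeCat.{u} G).map f := by
  obtain ⟨g, hg⟩ := QuotientGroup.mk_surjective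
    (coord (FiniteIndexNormalSubgroup.ofSubgroup (kerSubgroup X ⊓ kerSubgroup Y)) s)
  rw [complAct_of_rep X s inf_le_left hg.symm, complAct_of_rep Y s inf_le_right hg.symm]
  exact (f.comm g).symm

/-- The homomorphism from the completion to `Aut` of the forgetful functor. -/
noncomputable def toAutForget : Ĝ →* Aut (Action.forget FintypeCat.{u} G) :=
  MonoidHom.mk' (fun s => NatIso.ofComponents
      (fun X => Aut.unitsEndEquivAut X.V (complAct X s))
      (fun f => complAct_natural f s)) fun s t => by
    apply Iso.ext
    refine NatTrans.ext (funext fun X => ?_)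
    show ((complAct X (s * t) : (End X.V)ˣ) : End X.V) = _
    rw [map_mul]
    rfl

theorem toAutForget_app (s : Ĝ) (X : Action FintypeCat.{u} G) :
    (toAutForget s).hom.app X = (complAct X s : (End X.V)ˣ).val := rfl

theorem continuous_toAutForget : Continuous (toAutForget (G := G)) := by
  refine continuous_induced_rng.mpr (continuous_pi fun X => ?_)
  exact continuous_coord_comp (kerFI X) (α := Aut ((Action.forget FintypeCat.{u} G).obj X))
    fun q => Aut.unitsEndEquivAut X.V (quotAct X q)

theorem toAutForget_eta (g : G) (X : Action FintypeCat.{u} G) :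
    (toAutForget (ProfiniteCompletion.etaFn (GrpCat.of G) g)).hom.app X = X.ρ g := rfl

theorem injective_toAutForget : Function.Injective (toAutForget (G := G)) := by
  refine (injective_iff_map_eq_one _).mpr fun s hs => Subtype.ext (funext fun N => ?_)
  let X := quotObj (N.toSubgroup : Subgroup G)
  obtain ⟨g, hg⟩ := QuotientGroup.mk_surjective (coord (kerFI X) s)
  have h1 : X.ρ g = 𝟙 X.V := by
    rw [← complAct_of_rep X s (N := kerFI X) le_rfl hg.symm, ← toAutForget_app, hs]
    rfl
  have h2 : ((g * 1 : G) : G ⧸ N.toSubgroup) = ((1 : G) : G ⧸ N.toSubgroup) := by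
    rw [← quotObj_rho]
    show (X.ρ g).hom _ = _
    rw [h1]
    rfl
  have hle : kerFI X ≤ N := by
    intro k hk
    have h3 : X.ρ k = 𝟙 X.V := congrArg Units.val (hk : X.ρ.toHomUnits k = 1)
    have h4 : ((k * 1 : G) : G ⧸ N.toSubgroup) = ((1 : G) : G ⧸ N.toSubgroup) := by
      rw [← quotObj_rho]
      show (X.ρ k).hom _ = _
      rw [h3]
      rfl
    rw [mul_one] at h4
    exact (QuotientGroup.eq_one_iff k).mp h4
  rw [mul_one] at h2
  exact (coord_mono hle s hg.symm).trans h2

theorem denseRange_eta : DenseRange fun g : G =>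
    toAutForget (ProfiniteCompletion.etaFn (GrpCat.of G) g) := by
  refine denseRange_of_forall_finset _ fun t J => ?_
  let N : Subgroup G := ⨅ X : J, kerSubgroup X.1
  haveI : N.Normal := Subgroup.normal_iInf_normal fun X => inferInstance
  haveI : N.FiniteIndex := Subgroup.finiteIndex_iInf fun X => inferInstance
  obtain ⟨g, hg⟩ := QuotientGroup.mk_surjective
    ((t.hom.app (quotObj N)).hom ((1 : G) : G ⧸ N) : G ⧸ N)
  refine ⟨g, fun X hX x => ?_⟩
  have hN : N ≤ kerSubgroup X := iInf_le (fun X : J => kerSubgroup X.1) ⟨X, hX⟩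
  have nat := congrArg (fun φ => φ.hom ((1 : G) : G ⧸ N)) (t.hom.naturality (orbitMap N X hN x))
  change (t.hom.app X).hom ((X.ρ 1).hom x) =
    (orbitMap N X hN x).hom.hom ((t.hom.app (quotObj N)).hom ((1 : G) : G ⧸ N)) at nat
  rw [← hg, orbitMap_mk, map_one] at nat
  exact nat.symm

theorem surjective_toAutForget : Function.Surjective (toAutForget (G := G)) := by
  intro t
  have hcl : IsClosed (Set.range (toAutForget (G := G))) :=
    (isCompact_range continuous_toAutForget).isClosed
  have hsub : (Set.range fun g : G => toAutForget (ProfiniteCompletion.etaFn (GrpCat.of G) g)) ⊆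
      Set.range (toAutForget (G := G)) := by
    rintro _ ⟨g, rfl⟩
    exact Set.mem_range_self _
  exact hcl.closure_subset (closure_mono hsub (denseRange_eta t))

/-- The completion is the automorphism group of the forgetful functor. -/
noncomputable def complEquivAutForget :
    Ĝ ≃ₜ* Aut (Action.forget FintypeCat.{u} G) :=
  let e := MulEquiv.ofBijective (toAutForget (G := G))
    ⟨injective_toAutForget, surjective_toAutForget⟩
  { e with
    continuous_toFun := continuous_toAutForget
    continuous_invFun := Continuous.continuous_symm_of_equiv_compact_to_t2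
      (f := e.toEquiv) continuous_toAutForget }

end Completion

end H18Gal.AutForget
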