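import Groth.Agent.H18Gal.AutForget
import Mathlib.CategoryTheory.Action.Continuous
import Mathlib.Topology.Category.FinTopCat
import Mathlib.Topology.Algebra.OpenSubgroup

/-! # Automorphisms of the forgetful functor of finite continuous `G`-sets -/

set_option autoImplicit false
set_option backward.isDefEq.respectTransparency false

universe u

open CategoryTheory
open scoped FintypeCatDiscrete CategoryTheory.PreGaloisCategory

namespace H18Gal.AutForget

variable {G : Type u} [Group G] [TopologicalSpace G] [IsTopologicalGroup G]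

variable (G) in
/-- The forgetful functor. -/
abbrev forgetFF : ContAction FintypeCat.{u} G ⥤ FintypeCat.{u} :=
  forget₂ (ContAction FintypeCat.{u} G) FintypeCat.{u}

/-- The tautological homomorphism to `Aut` of the forgetful functor. -/
noncomputable def toAutForgetCont : G →* Aut (forgetFF G) :=
  MonoidHom.mk' (fun g => NatIso.ofComponents
      (fun X => Aut.unitsEndEquivAut X.obj.V (X.obj.ρ.toHomUnits g))
      (fun f => (f.hom.comm g).symm)) fun g h => by
    apply Iso.ext
    refine NatTrans.ext (funext fun X => ?_)
    show ((X.obj.ρ.toHomUnits (g * h) : (End X.obj.V)ˣ) : End X.obj.V) = _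
    rw [map_mul]
    rfl

theorem toAutForgetCont_app (g : G) (X : ContAction FintypeCat.{u} G) :
    (toAutForgetCont g).hom.app X = X.obj.ρ g := rfl

theorem isOpen_fiber_rho (X : ContAction FintypeCat.{u} G) (x y : X.obj.V) :
    IsOpen {g : G | (X.obj.ρ g).hom x = y} := by
  have hc := (Action.isContinuous_def X.obj).mp X.property
  have h1 := hc.comp ((continuous_id (X := G)).prodMk (continuous_const (y := x)))
  exact (isOpen_discrete (α := X.obj.V) {y}).preimage h1

theorem isOpen_kerSubgroup (X : ContAction FintypeCat.{u} G) :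
    IsOpen (kerSubgroup X.obj : Set G) := by
  have e : (kerSubgroup X.obj : Set G) = ⋂ x : X.obj.V, {g : G | (X.obj.ρ g).hom x = x} := by
    ext g
    simp only [Set.mem_iInter, Set.mem_setOf_eq, SetLike.mem_coe, kerSubgroup, MonoidHom.mem_ker]
    constructor
    · intro h x
      have h' : X.obj.ρ g = 𝟙 X.obj.V := congrArg Units.val h
      rw [h']
      rfl
    · intro h
      exact Units.ext (InducedCategory.hom_ext (ConcreteCategory.hom_ext _ _ fun x => h x))
  rw [e]
  exact isOpen_iInter_of_finite fun x => isOpen_fiber_rho X x x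

theorem continuous_toAutForgetCont : Continuous (toAutForgetCont (G := G)) := by
  refine continuous_induced_rng.mpr (continuous_pi fun X => ?_)
  refine IsLocallyConstant.continuous ((IsLocallyConstant.iff_exists_open _).mpr fun g => ?_)
  refine ⟨(fun h => g⁻¹ * h) ⁻¹' (kerSubgroup X.obj : Set G),
    (isOpen_kerSubgroup X).preimage (continuous_const.mul continuous_id), ?_, fun h hh => ?_⟩
  · show g⁻¹ * g ∈ kerSubgroup X.obj
    rw [inv_mul_cancel]
    exact one_mem _
  · have e : (g : G ⧸ kerSubgroup X.obj) = (h : G ⧸ kerSubgroup X.obj) := QuotientGroup.eq.mpr hh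
    apply Iso.ext
    exact (rho_eq_of_mk_eq X.obj le_rfl e).symm

/-- `G / N` for an open normal subgroup of finite index, as a continuous action. -/
noncomputable def quotContObj (N : Subgroup G) [N.Normal] [Finite (G ⧸ N)]
    (hN : IsOpen (N : Set G)) : ContAction FintypeCat.{u} G :=
  ⟨quotObj N, by
    rw [Action.isContinuous_def]
    have h1 : ∀ q : G ⧸ N, Continuous fun g : G => ((quotObj N).ρ g).hom q := by
      intro q
      refine IsLocallyConstant.continuous ((IsLocallyConstant.iff_exists_open _).mpr fun g => ?_)
      refine ⟨(fun h => h * g⁻¹) ⁻¹' (N : Set G),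
        hN.preimage (continuous_id.mul continuous_const), ?_, fun h hh => ?_⟩
      · show g * g⁻¹ ∈ N
        rw [mul_inv_cancel]
        exact one_mem _
      · obtain ⟨k, rfl⟩ := QuotientGroup.mk_surjective q
        show ((quotObj N).ρ h).hom ((k : G ⧸ N)) = ((quotObj N).ρ g).hom ((k : G ⧸ N))
        rw [quotObj_rho, quotObj_rho, QuotientGroup.eq]
        have h3 : k⁻¹ * (h * g⁻¹)⁻¹ * k ∈ N :=
          Subgroup.Normal.conj_mem' inferInstance _ (inv_mem hh) k
        have e : (h * k)⁻¹ * (g * k) = k⁻¹ * (h⁻¹ * g) * k := by group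
        rw [e]
        have h4 : h⁻¹ * g ∈ N := by
          have h5 : g⁻¹ * (h * g⁻¹) * g ∈ N := Subgroup.Normal.conj_mem' inferInstance _ hh g
          have e2 : g⁻¹ * (h * g⁻¹) * g = g⁻¹ * h := by group
          rw [e2] at h5
          simpa using inv_mem h5
        exact Subgroup.Normal.conj_mem' inferInstance _ h4 k
    haveI : DiscreteTopology ((forget₂ (Action FintypeCat.{u} G) TopCat).obj (quotObj N)) := ⟨rfl⟩
    exact continuous_prod_of_discrete_right.mpr h1⟩

theorem denseRange_toAutForgetCont : DenseRange (toAutForgetCont (G := G)) := by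
  refine denseRange_of_forall_finset _ fun t J => ?_
  let N : Subgroup G := ⨅ X : J, kerSubgroup X.1.obj
  haveI : N.Normal := Subgroup.normal_iInf_normal fun X => inferInstance
  haveI : N.FiniteIndex := Subgroup.finiteIndex_iInf fun X => inferInstance
  have hN : IsOpen (N : Set G) := by
    rw [Subgroup.coe_iInf]
    exact isOpen_iInter_of_finite fun X => isOpen_kerSubgroup X.1
  obtain ⟨g, hg⟩ := QuotientGroup.mk_surjective
    ((t.hom.app (quotContObj N hN)).hom ((1 : G) : G ⧸ N) : G ⧸ N)
  refine ⟨g, fun X hX x => ?_⟩
  have hle : N ≤ kerSubgroup X.obj := iInf_le (fun X : J => kerSubgroup X.1.obj) ⟨X, hX⟩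
  have nat := congrArg (fun φ => φ.hom ((1 : G) : G ⧸ N))
    (t.hom.naturality (ObjectProperty.homMk (orbitMap N X.obj hle x) : quotContObj N hN ⟶ X))
  change (t.hom.app X).hom ((X.obj.ρ 1).hom x) =
    (orbitMap N X.obj hle x).hom.hom ((t.hom.app (quotContObj N hN)).hom ((1 : G) : G ⧸ N)) at nat
  rw [← hg, orbitMap_mk, map_one] at nat
  exact nat.symm

section Factor

variable {Q : Type u} [Group Q] [Finite Q] [TopologicalSpace Q] [DiscreteTopology Q]

/-- A finite discrete group as a continuous `G`-set through a continuous homomorphism. -/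
noncomputable def groupObj (π : G →* Q) (hπ : Continuous π) : ContAction FintypeCat.{u} G :=
  letI : Fintype Q := Fintype.ofFinite _
  letI : MulAction G (FintypeCat.of Q) := MulAction.compHom Q π
  ⟨Action.FintypeCat.ofMulAction G (FintypeCat.of Q), by
    rw [Action.isContinuous_def]
    haveI : DiscreteTopology ((forget₂ (Action FintypeCat.{u} G) TopCat).obj
        (Action.FintypeCat.ofMulAction G (FintypeCat.of Q))) := ⟨rfl⟩
    refine continuous_prod_of_discrete_right.mpr fun (q : Q) => ?_
    exact IsLocallyConstant.continuous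
      (((IsLocallyConstant.iff_continuous _).mpr hπ).comp fun a : Q => a * q)⟩

/-- Right translation. -/
noncomputable def rightMul (π : G →* Q) (hπ : Continuous π) (a : Q) :
    groupObj π hπ ⟶ groupObj π hπ :=
  ObjectProperty.homMk
    { hom := FintypeCat.homMk fun q : Q => q * a
      comm := fun g => by
        ext (q : Q)
        show π g * q * a = π g * (q * a)
        rw [mul_assoc] }

/-- The factorisation through `Aut` of the forgetful functor. -/
noncomputable def factor (π : G →* Q) (hπ : Continuous π) : Aut (forgetFF G) →* Q :=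
  MonoidHom.mk' (fun t => ((t.hom.app (groupObj π hπ)).hom (1 : Q) : Q)) fun s t => by
    let a : Q := (t.hom.app (groupObj π hπ)).hom (1 : Q)
    let b : Q := (s.hom.app (groupObj π hπ)).hom (1 : Q)
    show (s.hom.app (groupObj π hπ)).hom a = _
    have nat := congrArg (fun φ => φ.hom (1 : Q)) (s.hom.naturality (rightMul π hπ a))
    change (s.hom.app (groupObj π hπ)).hom ((1 : Q) * a : Q) = (b * a : Q) at nat
    rw [one_mul] at nat
    exact nat

theorem factor_comp (π : G →* Q) (hπ : Continuous π) :
    (factor π hπ).comp toAutForgetCont = π := by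
  ext g
  show π g * 1 = π g
  rw [mul_one]

theorem continuous_factor (π : G →* Q) (hπ : Continuous π) : Continuous (factor π hπ) := by
  let g : Aut ((forgetFF G).obj (groupObj π hπ)) → Q := fun σ => σ.hom.hom (1 : Q)
  have h : IsLocallyConstant
      (fun t : Aut (forgetFF G) => PreGaloisCategory.autEmbedding (forgetFF G) t (groupObj π hπ)) :=
    (IsLocallyConstant.iff_continuous _).mpr
      ((continuous_apply (groupObj π hπ)).comp continuous_induced_dom)
  exact @IsLocallyConstant.continuous (Aut (forgetFF G)) Q _ _ _ (h.comp g)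

theorem existsUnique_factor (π : G →* Q) (hπ : Continuous π) :
    ∃! ψ : Aut (forgetFF G) →* Q, Continuous ψ ∧ ψ.comp toAutForgetCont = π := by
  refine ⟨factor π hπ, ⟨continuous_factor π hπ, factor_comp π hπ⟩, fun ψ hψ => ?_⟩
  refine MonoidHom.ext (congrFun ?_)
  refine denseRange_toAutForgetCont.equalizer hψ.1 (continuous_factor π hπ) (funext fun g => ?_)
  exact DFunLike.congr_fun (hψ.2.trans (factor_comp π hπ).symm) g

end Factor

end H18Gal.AutForget
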