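import Mathlib.Topology.Algebra.Category.ProfiniteGrp.Completion
import Mathlib.Algebra.Module.CharacterModule

/-!
# Profinite completion of abelian groups
-/

universe u

open CategoryTheory ProfiniteGrp ProfiniteGrp.ProfiniteCompletion

namespace Groth.Agent.H18Gal

variable {G H : Type u} [Group G] [Group H]

theorem continuous_coord (N : FiniteIndexNormalSubgroup (GrpCat.of G)) :
    Continuous fun x : completion (GrpCat.of G) => (x.1 N : (ProfiniteCompletion.diagram (GrpCat.of G)).obj N) :=
  (continuous_apply N).comp continuous_subtype_val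

theorem map_eta (φ : G →* H) (g : G) :
    (profiniteCompletion.map (GrpCat.ofHom φ)).hom (etaFn (GrpCat.of G) g) =
      etaFn (GrpCat.of H) (φ g) :=
  ConcreteCategory.congr_hom (lift_eta (GrpCat.ofHom φ ≫ eta (GrpCat.of H))) g

theorem coord_map (φ : G →* H) (x : completion (GrpCat.of G))
    (N : FiniteIndexNormalSubgroup (GrpCat.of H)) :
    ((profiniteCompletion.map (GrpCat.ofHom φ)).hom x).1 N =
      QuotientGroup.map (N.comap φ).toSubgroup N.toSubgroup φ le_rfl (x.1 (N.comap φ)) := by
  let D := (ProfiniteCompletion.diagram (GrpCat.of H)).obj N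
  let r : completion (GrpCat.of G) → D := fun x =>
    QuotientGroup.map (N.comap φ).toSubgroup N.toSubgroup φ le_rfl (x.1 (N.comap φ))
  have hl : Continuous fun x : completion (GrpCat.of G) =>
      (((profiniteCompletion.map (GrpCat.ofHom φ)).hom x).1 N : D) :=
    (continuous_coord N).comp (profiniteCompletion.map (GrpCat.ofHom φ)).hom.continuous_toFun
  have hr : Continuous r := by
    let D' := (ProfiniteCompletion.diagram (GrpCat.of G)).obj (N.comap φ)
    haveI : DiscreteTopology D' := ⟨rfl⟩
    let g : D' → D := fun q => QuotientGroup.map (N.comap φ).toSubgroup N.toSubgroup φ le_rfl q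
    exact (continuous_of_discreteTopology (f := g)).comp (continuous_coord (N.comap φ))
  refine congrFun (DenseRange.equalizer (denseRange (G := GrpCat.of G)) hl hr ?_) x
  funext g
  show ((profiniteCompletion.map (GrpCat.ofHom φ)).hom (etaFn (GrpCat.of G) g)).1 N = _
  rw [map_eta]
  rfl

theorem mem_closure_of_forall {S : Set (completion (GrpCat.of G))} {x : completion (GrpCat.of G)}
    (h : ∀ N, ∃ s ∈ S, s.1 N = x.1 N) : x ∈ closure S := by
  rw [mem_closure_iff]
  rintro O ⟨O', hO', rfl⟩ hx
  obtain ⟨J, fJ, hJ1, hJ2⟩ := isOpen_pi_iff.mp hO' _ hx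
  let M : Subgroup (GrpCat.of G) := iInf fun (j : J) => (j.val.toSubgroup : Subgroup (GrpCat.of G))
  haveI : M.Normal := Subgroup.normal_iInf_normal fun j => inferInstance
  haveI : M.FiniteIndex := Subgroup.finiteIndex_iInf fun j => inferInstance
  let m : FiniteIndexNormalSubgroup (GrpCat.of G) := { toSubgroup := M }
  obtain ⟨s, hs, hsm⟩ := h m
  refine ⟨s, hJ2 fun a ha => ?_, hs⟩
  let e : m ⟶ a := (iInf_le (fun (j : J) => (j.val.toSubgroup : Subgroup (GrpCat.of G))) ⟨a, ha⟩).hom
  show s.1 a ∈ fJ a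
  rw [← s.2 e, hsm, x.2 e]
  exact (hJ1 a ha).2

theorem map_surjective {φ : G →* H} (hφ : Function.Surjective φ) :
    Function.Surjective (profiniteCompletion.map (GrpCat.ofHom φ)).hom := by
  intro y
  have hcl : IsClosed (Set.range (profiniteCompletion.map (GrpCat.ofHom φ)).hom) :=
    (isCompact_range (profiniteCompletion.map (GrpCat.ofHom φ)).hom.continuous_toFun).isClosed
  exact hcl.closure_subset ((denseRange (G := GrpCat.of H)).mono
    (fun z hz => by
      obtain ⟨b, hb⟩ := Set.mem_range.1 hz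
      obtain ⟨g, rfl⟩ := hφ b
      exact ⟨_, (map_eta φ g).trans hb⟩) y)

variable {A : Type u} [CommGroup A]

theorem ker_map_mk (A' : Subgroup A) :
    (profiniteCompletion.map (GrpCat.ofHom (QuotientGroup.mk' A'))).hom.toMonoidHom.ker =
      (profiniteCompletion.map (GrpCat.ofHom A'.subtype)).hom.toMonoidHom.range := by
  set π := QuotientGroup.mk' A'
  apply le_antisymm
  · intro x hx
    have hcl : IsClosed (Set.range (profiniteCompletion.map (GrpCat.ofHom A'.subtype)).hom) :=
      (isCompact_range (profiniteCompletion.map (GrpCat.ofHom A'.subtype)).hom.continuous_toFun).isClosed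
    refine hcl.closure_subset (mem_closure_of_forall fun N => ?_)
    let P : Subgroup A := N.toSubgroup ⊔ A'
    haveI : (N.toSubgroup : Subgroup A).FiniteIndex := N.isFiniteIndex'
    haveI : P.FiniteIndex := Subgroup.finiteIndex_of_le le_sup_left
    haveI : (P.map π).FiniteIndex := ⟨by
      rw [← Subgroup.index_comap_of_surjective _ (QuotientGroup.mk'_surjective A'),
        Subgroup.comap_map_eq, QuotientGroup.ker_mk', sup_eq_left.2 le_sup_right]
      exact Subgroup.FiniteIndex.index_ne_zero⟩
    let N' : FiniteIndexNormalSubgroup (GrpCat.of (A ⧸ A')) := { toSubgroup := P.map π }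
    have h1 : ((profiniteCompletion.map (GrpCat.ofHom π)).hom x).1 N' = 1 :=
      congrArg (fun z : completion (GrpCat.of (A ⧸ A')) => z.1 N') (MonoidHom.mem_ker.1 hx)
    rw [coord_map] at h1
    have hle : N.toSubgroup ≤ (P.map π).comap π := le_sup_left.trans (Subgroup.le_comap_map π P)
    let e : N ⟶ N'.comap π := hle.hom
    obtain ⟨a, ha⟩ := QuotientGroup.mk_surjective (x.1 N)
    rw [← x.2 e, ← ha] at h1
    have h2 : π a ∈ P.map π := (QuotientGroup.eq_one_iff _).1 h1
    rw [← Subgroup.mem_comap, Subgroup.comap_map_eq, QuotientGroup.ker_mk', sup_eq_left.2 le_sup_right,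
      Subgroup.mem_sup] at h2
    obtain ⟨n, hn, a', ha', rfl⟩ := h2
    refine ⟨_, ⟨etaFn (GrpCat.of A') ⟨a', ha'⟩, rfl⟩, ?_⟩
    rw [map_eta, ← ha]
    exact QuotientGroup.eq.2 (by simpa [mul_comm n a'] using hn)
  · rintro x ⟨y, rfl⟩
    rw [MonoidHom.mem_ker]
    let f : completion (GrpCat.of A') → completion (GrpCat.of (A ⧸ A')) := fun y =>
      (profiniteCompletion.map (GrpCat.ofHom π)).hom ((profiniteCompletion.map (GrpCat.ofHom A'.subtype)).hom y)
    have hf : Continuous f := (profiniteCompletion.map (GrpCat.ofHom π)).hom.continuous_toFun.comp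
      (profiniteCompletion.map (GrpCat.ofHom A'.subtype)).hom.continuous_toFun
    refine congrFun (DenseRange.equalizer (denseRange (G := GrpCat.of A')) hf continuous_const ?_) y
    funext a
    show (profiniteCompletion.map (GrpCat.ofHom π)).hom
      ((profiniteCompletion.map (GrpCat.ofHom A'.subtype)).hom (etaFn (GrpCat.of A') a)) = 1
    rw [map_eta, map_eta, show π (A'.subtype a) = 1 from (QuotientGroup.eq_one_iff _).2 a.2]
    rfl

/-- A subgroup of `(Q, ·)` avoiding a given element that is not an `m`-th power. -/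
theorem exists_finiteIndex_not_mem {Q : Type u} [CommGroup Q] (m : ℕ) (hm : 0 < m) (f : Q)
    (hf : ∀ q : Q, q ^ m ≠ f) : ∃ M : Subgroup Q, M.FiniteIndex ∧ f ∉ M := by
  let K : AddSubgroup (Additive Q) := (nsmulAddMonoidHom (α := Additive Q) m).range
  let q := Additive Q ⧸ K
  have hne : ((Additive.ofMul f : Additive Q) : q) ≠ 0 := fun h => by
    obtain ⟨y, hy⟩ := (QuotientAddGroup.eq_zero_iff _).1 h
    exact hf (Additive.toMul y) (congrArg Additive.toMul hy)
  obtain ⟨c, hc⟩ := CharacterModule.exists_character_apply_ne_zero_of_ne_zero (A := q) hne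
  let χ : Additive Q →+ AddCircle (1 : ℚ) := c.comp (QuotientAddGroup.mk' K)
  have hkill : ∀ z, m • χ z = 0 := fun z => by
    rw [← map_nsmul]
    show c ((m • z : Additive Q) : q) = 0
    rw [(QuotientAddGroup.eq_zero_iff (m • z)).2 (AddMonoidHom.mem_range.2 ⟨z, rfl⟩ : m • z ∈ K)]
    exact map_zero c
  have hfin : Finite χ.range := by
    refine (((AddCircle.finite_torsion (1 : ℚ) hm).subset ?_)).to_subtype
    rintro _ ⟨z, rfl⟩
    exact hkill z
  let M : Subgroup Q := AddSubgroup.toSubgroup' χ.ker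
  refine ⟨M, ⟨?_⟩, fun h => hc h⟩
  have h0 : χ.ker.index ≠ 0 := by
    rw [AddSubgroup.index_ker]
    exact Nat.card_pos.ne'
  exact h0

theorem map_subtype_injective (A' : Subgroup A)
    (htors : ∃ N : ℕ, 0 < N ∧ ∀ x : A ⧸ A', IsOfFinOrder x → x ^ N = 1) :
    Function.Injective (profiniteCompletion.map (GrpCat.ofHom A'.subtype)).hom := by
  obtain ⟨t, ht, htors⟩ := htors
  refine (injective_iff_map_eq_one (profiniteCompletion.map (GrpCat.ofHom A'.subtype)).hom.toMonoidHom).2
    fun x hx => ?_
  refine Subtype.ext (funext fun N => ?_)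
  obtain ⟨a, ha⟩ := QuotientGroup.mk_surjective (x.1 N)
  rw [← ha]
  refine (QuotientGroup.eq_one_iff a).2 ?_
  by_contra hcon
  haveI : (N.toSubgroup : Subgroup A').FiniteIndex := N.isFiniteIndex'
  set n := (N.toSubgroup : Subgroup A').index with hn
  -- `a` is not an `n t`-th power modulo `N`
  let Q := A ⧸ (N.toSubgroup : Subgroup A').map A'.subtype
  have hf : ∀ q : Q, q ^ (n * t) ≠ ((a : A) : Q) := by
    intro q hq
    obtain ⟨b, rfl⟩ := QuotientGroup.mk_surjective q
    rw [← QuotientGroup.mk_pow, QuotientGroup.eq, Subgroup.mem_map] at hq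
    obtain ⟨c, hc, hc'⟩ := hq
    have hb : b ^ (n * t) ∈ A' := by
      have e : b ^ (n * t) = (a : A) * (A'.subtype c)⁻¹ := by
        rw [hc', mul_inv_rev, inv_inv, ← mul_assoc, mul_inv_cancel, one_mul]
      rw [e]
      exact mul_mem a.2 (inv_mem c.2)
    have hbt : b ^ t ∈ A' := by
      rw [← QuotientGroup.eq_one_iff, QuotientGroup.mk_pow]
      refine htors _ (isOfFinOrder_iff_pow_eq_one.2 ⟨n * t, Nat.mul_pos
        (Nat.pos_of_ne_zero Subgroup.FiniteIndex.index_ne_zero) ht, ?_⟩)
      rw [← QuotientGroup.mk_pow]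
      exact (QuotientGroup.eq_one_iff _).2 hb
    have hmem : (⟨b ^ t, hbt⟩ : A') ^ n ∈ (N.toSubgroup : Subgroup A') := by
      rw [hn]
      exact Subgroup.pow_index_mem _ _
    apply hcon
    have e : a = (⟨b ^ t, hbt⟩ : A') ^ n * c := Subtype.ext (by
      show (a : A) = (b ^ t) ^ n * (A'.subtype c)
      rw [hc', ← pow_mul, mul_comm t n, ← mul_assoc, mul_inv_cancel, one_mul])
    rw [e]
    exact mul_mem hmem hc
  obtain ⟨M, hM, haM⟩ := exists_finiteIndex_not_mem (n * t)
    (Nat.mul_pos (Nat.pos_of_ne_zero Subgroup.FiniteIndex.index_ne_zero) ht) _ hf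
  let π := QuotientGroup.mk' ((N.toSubgroup : Subgroup A').map A'.subtype)
  haveI : (M.comap π).FiniteIndex :=
    ⟨by rw [Subgroup.index_comap_of_surjective _ (QuotientGroup.mk'_surjective _)]; exact hM.index_ne_zero⟩
  let M' : FiniteIndexNormalSubgroup (GrpCat.of A) := { toSubgroup := M.comap π }
  have h1 : ((profiniteCompletion.map (GrpCat.ofHom A'.subtype)).hom x).1 M' = 1 :=
    congrArg (fun z : completion (GrpCat.of A) => z.1 M') hx
  rw [coord_map] at h1
  have hle : N.toSubgroup ≤ (M.comap π).comap A'.subtype := fun y hy => by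
    show π (A'.subtype y) ∈ M
    rw [show π (A'.subtype y) = 1 from (QuotientGroup.eq_one_iff _).2 ⟨y, hy, rfl⟩]
    exact one_mem _
  let e : N ⟶ M'.comap A'.subtype := hle.hom
  rw [← x.2 e, ← ha] at h1
  exact haM ((QuotientGroup.eq_one_iff (N := M.comap π) (A'.subtype a : A)).1 h1)

end Groth.Agent.H18Gal
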